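import Groth.Agent.Lib.DimOne23.Class
import Groth.Agent.Lib.DimOne23.Basic
import Groth.Agent.Lib.UnipConst20.Basic
import Groth.Agent.Lib.VarDim.Alg
import Mathlib

/-!
# Groups isogenous to the multiplicative group: descent of the generating character
-/

set_option autoImplicit false
set_option linter.style.haveILetI false
set_option backward.isDefEq.respectTransparency.types false
set_option maxSynthPendingDepth 3

universe u

open scoped TensorProduct

noncomputable section

namespace Groth.Agent.GmIsog6

section Pow

variable {k : Type u} [CommRing k] {A : Type u} [CommRing A] [Bialgebra k A]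
  (K : Type u) [CommRing K] [Algebra k K]

variable (k A) in
/-- The `n`-th convolution power of the identity, as a linear map. -/
def ν : ℕ → (A →ₗ[k] A)
  | 0 => Algebra.linearMap k A ∘ₗ Coalgebra.counit
  | n + 1 => LinearMap.mul' k A ∘ₗ TensorProduct.map (ν n) LinearMap.id ∘ₗ Coalgebra.comul

theorem baseChange_ν_succ (n : ℕ) (b : K ⊗[k] A) :
    (ν k A (n + 1)).baseChange K b =
      LinearMap.mul' K (K ⊗[k] A) (TensorProduct.map ((ν k A n).baseChange K) LinearMap.id
        (Coalgebra.comul (R := K) b)) := by
  induction b with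
  | zero => simp
  | add x y hx hy => simp only [map_add, hx, hy]
  | tmul c a =>
    rw [LinearMap.baseChange_tmul]
    rw [TensorProduct.comul_tmul, CommSemiring.comul_apply]
    show c ⊗ₜ[k] (LinearMap.mul' k A (TensorProduct.map (ν k A n) LinearMap.id (Coalgebra.comul a))) = _
    induction (Coalgebra.comul (R := k) a) with
    | zero => simp
    | add x y hx hy => simp only [map_add, TensorProduct.tmul_add, hx, hy]
    | tmul x y => simp [Algebra.TensorProduct.tmul_mul_tmul, mul_comm]

theorem baseChange_ν_of_groupLike {g : K ⊗[k] A} (hg : IsGroupLikeElem K g) (n : ℕ) :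
    (ν k A n).baseChange K g = g ^ n := by
  induction n with
  | zero =>
    have key : ∀ b : K ⊗[k] A, (ν k A 0).baseChange K b = algebraMap K _ (Coalgebra.counit (R := K) b) := by
      intro b
      induction b with
      | zero => simp
      | add x y hx hy => simp only [map_add, hx, hy]
      | tmul c a =>
        rw [LinearMap.baseChange_tmul, TensorProduct.counit_tmul, CommSemiring.counit_apply]
        show c ⊗ₜ[k] algebraMap k A (Coalgebra.counit (R := k) a) = (Coalgebra.counit (R := k) a • c) ⊗ₜ[k] (1 : A)
        rw [Algebra.algebraMap_eq_smul_one, TensorProduct.tmul_smul, TensorProduct.smul_tmul']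
    rw [key, hg.counit_eq_one, map_one, pow_zero]
  | succ n ih => simp [baseChange_ν_succ, hg.comul_eq_tmul_self, ih, pow_succ]

end Pow

variable {k : Type u} [Field k]

theorem ringKrullDim_monoidAlgebra_int (K : Type u) [Field K] :
    ringKrullDim (MonoidAlgebra K (Multiplicative ℤ)) = 1 := by
  haveI := LaurentPolynomial.isLocalization (R := K)
  haveI : IsPrincipalIdealRing (LaurentPolynomial K) := ⟨fun I => by
    rw [← IsLocalization.map_comap (Submonoid.powers (Polynomial.X : Polynomial K)) (LaurentPolynomial K) I]
    obtain ⟨g, hg⟩ := (IsPrincipalIdealRing.principal (I.comap (algebraMap (Polynomial K) (LaurentPolynomial K))))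
    refine ⟨algebraMap _ _ g, ?_⟩
    change _ = Ideal.span {_}
    rw [Ideal.under, hg]
    exact Ideal.map_span _ _ |>.trans (by rw [Set.image_singleton])⟩
  haveI : IsDomain (LaurentPolynomial K) := inferInstance
  have hne : ¬ IsField (LaurentPolynomial K) := by
    intro h
    have h1 : (1 + LaurentPolynomial.T 1 : LaurentPolynomial K) ≠ 0 := by
      rw [← Polynomial.toLaurent_X, ← map_one (Polynomial.toLaurent (R := K)), ← map_add, Ne,
        map_eq_zero_iff _ Polynomial.toLaurent_injective]
      intro h0
      have := congrArg (fun p => Polynomial.coeff p 1) h0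
      simp [Polynomial.coeff_one] at this
    obtain ⟨q, hq⟩ := h.mul_inv_cancel h1
    have := congrArg (LaurentPolynomial.eval₂ (RingHom.id K) (-1 : Kˣ)) hq
    simp at this
  have h : ringKrullDim (LaurentPolynomial K) = 1 := IsPrincipalIdealRing.ringKrullDim_eq_one _ hne
  exact (ringKrullDim_eq_of_ringEquiv (AddMonoidAlgebra.toMultiplicative K ℤ).symm).trans h

variable (A : Type u) [CommRing A] [HopfAlgebra k A] [Algebra.FiniteType k A] [Algebra.FormallySmooth k A]

/-- A connected smooth group with an integral character onto `𝔾ₘ` is `𝔾ₘ`. -/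
theorem exists_generator (hconn : ∀ e : A, IsIdempotentElem e → e = 0 ∨ e = 1)
    (φ : MonoidAlgebra k (Multiplicative ℤ) →ₐ[k] A) (hinj : Function.Injective φ) (hint : φ.toRingHom.IsIntegral) :
    ∃ χ : Multiplicative ℤ →* A, (∀ m, IsGroupLikeElem k (χ m)) ∧
      Function.Bijective (MonoidAlgebra.lift k A (Multiplicative ℤ) χ) := by
  classical
  let K := AlgebraicClosure k
  let B := K ⊗[k] A
  haveI : Nontrivial A := (Bialgebra.counitAlgHom k A).toRingHom.domain_nontrivial
  haveI : IsDomain A := UnipConst20.isDomain_of_connected (k := k) A hconn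
  haveI : IsNoetherianRing A := Algebra.FiniteType.isNoetherianRing k A
  haveI : Nontrivial B := (Bialgebra.counitAlgHom K B).toRingHom.domain_nontrivial
  haveI : IsDomain B := UnipConst20.isDomain_of_connected (k := K) B (UnipConst20.idem_baseChange A K)
  let ι : A →ₐ[k] B := Algebra.TensorProduct.includeRight
  have hι : Function.Injective ι :=
    Algebra.TensorProduct.includeRight_injective (FaithfulSMul.algebraMap_injective k K)
  -- dimension
  have hdim : ringKrullDim B = 1 := by
    let L := K ⊗[k] MonoidAlgebra k (Multiplicative ℤ)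
    let φK : L →ₐ[K] B := Algebra.TensorProduct.map (AlgHom.id K K) φ
    have hφK : Function.Injective φK := by
      have := Module.Flat.lTensor_preserves_injective_linearMap (M := K) φ.toLinearMap hinj
      intro x y h
      refine this ?_
      have hfun : ∀ z : L, LinearMap.lTensor K φ.toLinearMap z = φK z := fun z => by
        induction z using TensorProduct.induction_on with
        | zero => simp
        | add x y hx hy => rw [map_add, map_add, hx, hy]
        | tmul c a => rfl
      rw [hfun, hfun, h]
    letI : Algebra L B := φK.toRingHom.toAlgebra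
    haveI : Algebra.IsIntegral L B := ⟨fun b => by
      induction b using TensorProduct.induction_on with
      | zero => exact isIntegral_zero
      | add x y hx hy => exact hx.add hy
      | tmul c a =>
        have hc : IsIntegral L ((c ⊗ₜ[k] (1 : A)) : B) := by
          have : ((c ⊗ₜ[k] (1 : A)) : B) = algebraMap L B (c ⊗ₜ[k] 1) := by
            show _ = φK (c ⊗ₜ[k] 1)
            refine Eq.trans ?_ (Algebra.TensorProduct.map_tmul _ _ _ _).symm
            rw [map_one]
            rfl
          rw [this]
          exact isIntegral_algebraMap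
        have ha : IsIntegral L (ι a) := by
          obtain ⟨p, hp, hp0⟩ := hint a
          refine ⟨p.map (Algebra.TensorProduct.includeRight (R := k) (A := K) (B := MonoidAlgebra k (Multiplicative ℤ))).toRingHom, hp.map _, ?_⟩
          rw [Polynomial.eval₂_map]
          have : (algebraMap L B).comp
              (Algebra.TensorProduct.includeRight (R := k) (A := K) (B := MonoidAlgebra k (Multiplicative ℤ))).toRingHom =
              ι.toRingHom.comp φ.toRingHom := by
            ext x
            · show φK (1 ⊗ₜ[k] _) = (1 : K) ⊗ₜ[k] _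
              exact (Algebra.TensorProduct.map_tmul _ _ _ _)
            · show φK (1 ⊗ₜ[k] _) = (1 : K) ⊗ₜ[k] _
              exact (Algebra.TensorProduct.map_tmul _ _ _ _)
          rw [this]
          have h := Polynomial.hom_eval₂ p φ.toRingHom ι.toRingHom a
          rw [hp0, map_zero] at h
          exact h.symm
        have : (c ⊗ₜ[k] a : B) = (c ⊗ₜ[k] (1 : A)) * ι a := by
          show _ = _ * ((1 : K) ⊗ₜ[k] a)
          rw [Algebra.TensorProduct.tmul_mul_tmul, mul_one, one_mul]
        rw [this]
        exact hc.mul ha⟩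
    rw [Groth.Agent.VarDim.ringKrullDim_eq_of_isIntegral (R := L) (S := B) hφK,
      ringKrullDim_eq_of_ringEquiv (MonoidAlgebra.scalarTensorEquiv (M := Multiplicative ℤ) k K).toRingEquiv, ringKrullDim_monoidAlgebra_int K]
  haveI := DimOne23.isCocomm (k := K) (A := B) hdim
  -- the given character
  let t : MonoidAlgebra k (Multiplicative ℤ) := MonoidAlgebra.of k _ (Multiplicative.ofAdd 1)
  have ht : IsUnit t := (Group.isUnit (Multiplicative.ofAdd (1 : ℤ))).map _
  set c := Bialgebra.counitAlgHom k A (φ t) with hcdef
  have hc : c ≠ 0 := ((ht.map φ).map _).ne_zero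
  let u₁ : A := algebraMap k A c⁻¹ * φ t
  have hu₁ : IsUnit u₁ := ((isUnit_iff_ne_zero.2 (inv_ne_zero hc)).map _).mul (ht.map φ)
  have hε₁ : Bialgebra.counitAlgHom k A u₁ = 1 := by
    rw [map_mul, AlgHom.commutes, Algebra.algebraMap_self, RingHom.id_apply, ← hcdef, inv_mul_cancel₀ hc]
  have hεB : ∀ a : A, Bialgebra.counitAlgHom K B (ι a) = algebraMap k K (Bialgebra.counitAlgHom k A a) := fun a => by
    simp [ι, B, Algebra.smul_def]
  have hg : IsGroupLikeElem K (ι u₁) :=
    UnipConst20.isGroupLikeElem_of_isUnit (K := K) (hu₁.map ι) (by rw [hεB, hε₁, map_one])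
  let g : GroupLike K B := ⟨ι u₁, hg⟩
  have hg1 : g ≠ 1 := by
    intro h
    have h1 : ι u₁ = ι 1 := by
      rw [map_one, ← GroupLike.val_one (R := K) (A := B), ← h]
    have h2 : φ t = φ (algebraMap k _ c) := by
      rw [φ.commutes]
      have := congrArg (algebraMap k A c * ·) (hι h1)
      simpa [u₁, ← mul_assoc, ← map_mul, hc] using this
    have h3 := congrArg (fun p : MonoidAlgebra k (Multiplicative ℤ) => p.coeff (Multiplicative.ofAdd 1)) (hinj h2)
    simp [t] at h3
  obtain ⟨E₀⟩ := DimOne23.gm_equiv (k := K) (A := B) hdim hg1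
  let E : B ≃ₐ[K] MonoidAlgebra K (Multiplicative ℤ) := E₀
  obtain ⟨z, hz⟩ : ∃ z, MonoidAlgebra.of K (Multiplicative ℤ) z = E (ι u₁) :=
    MonoidAlgebra.isGroupLikeElem_iff_mem_range_of.1 (hg.map E₀)
  -- orient
  obtain ⟨u₀, m, hm, hEu⟩ : ∃ (u₀ : A) (m : ℕ), 0 < m ∧
      E (ι u₀) = MonoidAlgebra.of K _ (Multiplicative.ofAdd (m : ℤ)) := by
    have hz0 : z ≠ 1 := by
      rintro rfl
      refine hg1 (GroupLike.ext ?_)
      rw [GroupLike.val_one]
      refine E.injective ?_
      rw [map_one, ← hz, map_one]
    rcases le_total 0 z.toAdd with hn | hn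
    · refine ⟨u₁, z.toAdd.natAbs, Int.natAbs_pos.2 (fun h => hz0 (Multiplicative.toAdd.injective h)), ?_⟩
      rw [← hz]
      congr 1
      refine Multiplicative.toAdd.injective ?_
      simp [abs_of_nonneg hn]
    · obtain ⟨w, hw⟩ := hu₁
      refine ⟨((w⁻¹ : Aˣ) : A), z.toAdd.natAbs, Int.natAbs_pos.2 (fun h => hz0 (Multiplicative.toAdd.injective h)), ?_⟩
      have h1 : E (ι ((w⁻¹ : Aˣ) : A)) * E (ι u₁) = 1 := by rw [← map_mul, ← map_mul, ← hw, Units.inv_mul, map_one, map_one]
      rw [← hz] at h1
      have h2 : (MonoidAlgebra.of K (Multiplicative ℤ) z) * MonoidAlgebra.of K _ z⁻¹ = 1 := by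
        rw [← map_mul, mul_inv_cancel, map_one]
      rw [left_inv_eq_right_inv h1 h2]
      congr 1
      refine Multiplicative.toAdd.injective ?_
      simp [abs_of_nonpos hn]
  -- `ν m` is injective
  let T : Multiplicative ℤ → B := fun a => E.symm (MonoidAlgebra.of K _ a)
  have hT : ∀ a, IsGroupLikeElem K (T a) := fun a =>
    (MonoidAlgebra.isGroupLikeElem_iff_mem_range_of.2 ⟨a, rfl⟩).map E₀.symm
  let Lm := (ν k A m).baseChange K
  have hLm : Function.Injective Lm := by
    have key : ∀ p : MonoidAlgebra K (Multiplicative ℤ),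
        E (Lm (E.symm p)) = MonoidAlgebra.mapDomain (fun a => a ^ m) p := by
      intro p
      induction p using MonoidAlgebra.induction_linear with
      | zero => simp
      | add x y hx hy => simp only [map_add, hx, hy, MonoidAlgebra.mapDomain_add]
      | single a r =>
        have e1 : MonoidAlgebra.single a r = r • MonoidAlgebra.of K (Multiplicative ℤ) a := by simp
        rw [e1, map_smul, map_smul, map_smul, show Lm (E.symm (MonoidAlgebra.of K _ a)) = T a ^ m from
          baseChange_ν_of_groupLike K (hT a) m, map_pow, show E (T a) = MonoidAlgebra.of K _ a from E.apply_symm_apply _,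
          ← map_pow, ← e1]
        simp
    intro x y hxy
    have h1 := congrArg E hxy
    rw [← E.symm_apply_apply x, ← E.symm_apply_apply y, key, key] at h1
    refine E.injective (MonoidAlgebra.mapDomain_injective (fun a b hab => ?_) h1)
    exact (pow_left_inj (M := Multiplicative ℤ) hm.ne').1 hab
  -- descend `T 1`
  obtain ⟨v, hv⟩ : ∃ v, ν k A m v = u₀ := by
    let q := (LinearMap.range (ν k A m)).mkQ
    have h1 : Lm (T (Multiplicative.ofAdd 1)) = ι u₀ := by
      refine E.injective ?_
      rw [show Lm (T _) = T (Multiplicative.ofAdd 1) ^ m from baseChange_ν_of_groupLike K (hT _) m, map_pow, hEu,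
        show E (T _) = MonoidAlgebra.of K _ (Multiplicative.ofAdd 1) from E.apply_symm_apply _, ← map_pow]
      congr 1
      refine Multiplicative.toAdd.injective ?_
      simp
    have h2 : q u₀ = 0 := by
      haveI : Module.Free k (A ⧸ LinearMap.range (ν k A m)) := Module.Free.of_divisionRing k _
      have h3 : q.baseChange K (ι u₀) = 0 := by
        rw [← h1]
        show ((q.baseChange K) ∘ₗ Lm) _ = 0
        rw [← LinearMap.baseChange_comp, show q ∘ₗ ν k A m = 0 from LinearMap.range_le_ker_iff.1 (by rw [Submodule.ker_mkQ]),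
          LinearMap.baseChange_zero]
        rfl
      have h4 : (1 : K) ⊗ₜ[k] q u₀ = (1 : K) ⊗ₜ[k] (0 : A ⧸ LinearMap.range (ν k A m)) := by
        rw [TensorProduct.tmul_zero]; exact h3
      exact (Module.FaithfullyFlat.one_tmul_eq_zero_iff k _ (A := K) _).1 (by rwa [TensorProduct.tmul_zero] at h4)
    exact (Submodule.Quotient.mk_eq_zero _).1 h2
  have hvT : ι v = T (Multiplicative.ofAdd 1) := by
    refine hLm ?_
    refine E.injective ?_
    rw [show Lm (T _) = T (Multiplicative.ofAdd 1) ^ m from baseChange_ν_of_groupLike K (hT _) m, map_pow,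
      show E (T _) = MonoidAlgebra.of K _ (Multiplicative.ofAdd 1) from E.apply_symm_apply _, ← map_pow,
      show Lm (ι v) = ι u₀ from (LinearMap.baseChange_tmul _ _ _).trans (by rw [hv]; rfl), hEu]
    congr 1
    refine Multiplicative.toAdd.injective ?_
    simp
  -- `v` is group-like
  have hvg : IsGroupLikeElem k v := by
    refine ⟨?_, ?_⟩
    · refine (algebraMap k K).injective ?_
      have h := (hT (Multiplicative.ofAdd 1)).counit_eq_one
      rw [← hvT] at h
      exact ((hεB v).symm.trans h).trans (map_one _).symm
    · let j : A ⊗[k] A →ₐ[k] B ⊗[K] B :=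
        Algebra.TensorProduct.lift (((Algebra.TensorProduct.includeLeft : B →ₐ[K] B ⊗[K] B).restrictScalars k).comp ι)
          (((Algebra.TensorProduct.includeRight : B →ₐ[K] B ⊗[K] B).restrictScalars k).comp ι) fun _ _ => .all _ _
      have hjc : ∀ a, Coalgebra.comul (R := K) (ι a) = j (Coalgebra.comul (R := k) a) := by
        intro a
        show Coalgebra.comul (R := K) ((1 : K) ⊗ₜ[k] a) = _
        rw [TensorProduct.comul_tmul, CommSemiring.comul_apply]
        induction (Coalgebra.comul (R := k) a) with
        | zero => simp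
        | add x y hx hy => rw [TensorProduct.tmul_add, map_add, map_add, hx, hy]
        | tmul x y =>
          simp [j, ι]
          rfl
      have hj : Function.Injective j := by
        let e := (TensorProduct.AlgebraTensorModule.distribBaseChange k K A A)
        have he : ∀ x, e ((1 : K) ⊗ₜ[k] x) = j x := by
          intro x
          induction x with
          | zero => simp
          | add x y hx hy => rw [TensorProduct.tmul_add, map_add, map_add, hx, hy]
          | tmul x y =>
            simp [e, j, ι]
            rfl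
        intro x y hxy
        rw [← he, ← he] at hxy
        exact Algebra.TensorProduct.includeRight_injective (A := K) (B := A ⊗[k] A)
          (FaithfulSMul.algebraMap_injective k K) (e.injective hxy)
      refine hj ?_
      rw [← hjc, hvT, (hT _).comul_eq_tmul_self, ← hvT]
      simp [j]
  obtain ⟨vu, hvu⟩ : IsUnit v := hvg.isUnit
  let χ : Multiplicative ℤ →* A := (Units.coeHom A).comp (zpowersHom Aˣ vu)
  refine ⟨χ, fun a => ?_, ?_⟩
  · have h1 : ∀ n : ℕ, IsGroupLikeElem k ((vu ^ n : Aˣ) : A) := fun n => by
      rw [Units.val_pow_eq_pow_val, hvu]; exact hvg.pow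
    show IsGroupLikeElem k ((vu ^ a.toAdd : Aˣ) : A)
    obtain ⟨n, hn | hn⟩ := Int.eq_nat_or_neg a.toAdd
    · rw [hn, zpow_natCast]; exact h1 n
    · rw [hn, zpow_neg, zpow_natCast]
      exact (isGroupLikeElem_iff_of_mul_eq_one (Units.inv_mul _) (Units.mul_inv _)).2 (h1 n)
  have key : ∀ p, ι (MonoidAlgebra.lift k A (Multiplicative ℤ) χ p) =
      E.symm (MonoidAlgebra.mapRingHom (Multiplicative ℤ) (algebraMap k K) p) := by
    have hh : (ι.toRingHom.comp (MonoidAlgebra.lift k A (Multiplicative ℤ) χ).toRingHom) =
        ((E.symm : MonoidAlgebra K (Multiplicative ℤ) →ₐ[K] B).toRingHom.comp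
          (MonoidAlgebra.mapRingHom (Multiplicative ℤ) (algebraMap k K))) := by
      refine MonoidAlgebra.ringHom_ext (fun r => ?_) (fun a => ?_)
      · show ι (MonoidAlgebra.lift k A _ χ (algebraMap k (MonoidAlgebra k (Multiplicative ℤ)) r)) =
          E.symm (MonoidAlgebra.mapRingHom _ (algebraMap k K) (MonoidAlgebra.single 1 r))
        rw [AlgHom.commutes, AlgHom.commutes, MonoidAlgebra.mapRingHom_single,
          IsScalarTower.algebraMap_apply k K B]
        exact (E.symm.commutes _).symm
      · show ι (MonoidAlgebra.lift k A _ χ (MonoidAlgebra.single a 1)) =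
          E.symm (MonoidAlgebra.mapRingHom _ (algebraMap k K) (MonoidAlgebra.single a 1))
        rw [MonoidAlgebra.mapRingHom_single, map_one, MonoidAlgebra.lift_single, one_smul]
        have hχ : (ι : A →* B).comp χ =
            (E.symm : MonoidAlgebra K (Multiplicative ℤ) →* B).comp (MonoidAlgebra.of K _) := by
          refine MonoidHom.ext_mint ?_
          show ι ((vu ^ (1 : ℤ) : Aˣ) : A) = _
          rw [zpow_one, hvu, hvT]
          rfl
        exact DFunLike.congr_fun hχ a
    exact fun p => RingHom.congr_fun hh p
  refine ⟨fun p q h => ?_, fun a => ?_⟩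
  · have := congrArg ι h
    rw [key, key] at this
    exact MonoidAlgebra.map_injective (algebraMap k K).toAddMonoidHom (algebraMap k K).injective (E.symm.injective this)
  · let ψ := MonoidAlgebra.lift k A (Multiplicative ℤ) χ
    let q := (LinearMap.range ψ.toLinearMap).mkQ
    have h0 : q.baseChange K = 0 := by
      refine LinearMap.ext fun b => ?_
      obtain ⟨p, rfl⟩ := E.symm.surjective b
      induction p using MonoidAlgebra.induction_linear with
      | zero => simp
      | add x y hx hy => simp only [map_add, hx, hy]
      | single a r =>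
        have e1 : MonoidAlgebra.single a r =
            r • MonoidAlgebra.mapRingHom (Multiplicative ℤ) (algebraMap k K) (MonoidAlgebra.of k _ a) := by simp
        rw [e1, map_smul, ← key, map_smul]
        show r • ((1 : K) ⊗ₜ[k] q (ψ (MonoidAlgebra.of k _ a))) = 0
        rw [show q (ψ _) = 0 from (Submodule.Quotient.mk_eq_zero _).2 ⟨_, rfl⟩, TensorProduct.tmul_zero, smul_zero]
    have h2 : q a = 0 := by
      haveI : Module.Free k (A ⧸ LinearMap.range ψ.toLinearMap) := Module.Free.of_divisionRing k _
      refine (Module.FaithfullyFlat.one_tmul_eq_zero_iff k _ (A := K) (q a)).1 ?_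
      exact LinearMap.congr_fun h0 ((1 : K) ⊗ₜ[k] a)
    exact (Submodule.Quotient.mk_eq_zero _).1 h2

end Groth.Agent.GmIsog6
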